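import Mathlib

/-!
# A group with a Sylow 5-subgroup of order 25 whose nontrivial elements are fused: degrees `≥ 24` (helper751)

`K` algebraically closed, `5 ≠ 0` in `K`; `deg24 : 24 ≤ dim V` for every representation nontrivial on the Sylow 5-subgroup.
-/

set_option autoImplicit false

namespace Cfsg.Agent.H751.TitsK

open Module Subgroup

section ev

variable {K : Type*} [Field K] {V : Type*} [AddCommGroup V] [Module K V]

/-- eigenvectors for distinct characters are independent -/
theorem card_le {P : Type*} [Group P] (hP : ∀ a b : P, a * b = b * a) (σ : P →* Module.End K V)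
    [FiniteDimensional K V] {ι : Type*} [Fintype ι] (χ : ι → P → K) (hχ : Function.Injective χ) (v : ι → V)
    (hv0 : ∀ i, v i ≠ 0) (hv : ∀ i x, σ x (v i) = χ i x • v i) : Fintype.card ι ≤ finrank K V := by
  have h1 : iSupIndep fun χ : P → K => ⨅ x, (σ x).maxGenEigenspace (χ x) := by
    refine Module.End.independent_iInf_maxGenEigenspace_of_forall_mapsTo (fun x => σ x) ?_
    intro x y c
    apply Module.End.mapsTo_maxGenEigenspace_of_comm
    show σ y * σ x = σ x * σ y
    rw [← map_mul, ← map_mul, hP]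
  have h2 := iSupIndep.comp h1 hχ
  have h3 : LinearIndependent K v := by
    refine iSupIndep.linearIndependent _ h2 (v := v) (fun i => ?_) hv0
    show v i ∈ ⨅ x, (σ x).maxGenEigenspace (χ i x)
    rw [Submodule.mem_iInf]
    intro x
    refine (Module.End.mem_maxGenEigenspace _ _ _).2 ⟨1, ?_⟩
    rw [pow_one, LinearMap.sub_apply, hv]
    simp
  exact h3.fintype_card_le_finrank

/-- a nontrivial eigenvalue -/
theorem exists_ne_one [IsAlgClosed K] [FiniteDimensional K V] (h5 : (5 : K) ≠ 0) (g : Module.End K V) (hg : g ^ 5 = 1)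
    (hg1 : g ≠ 1) : ∃ c : K, c ≠ 1 ∧ ∃ w : V, w ≠ 0 ∧ g w = c • w := by
  have hW : LinearMap.range (g - 1) ≠ ⊥ := by
    intro h
    rw [LinearMap.range_eq_bot, sub_eq_zero] at h
    exact hg1 h
  have : Nontrivial (LinearMap.range (g - 1)) := Submodule.nontrivial_iff_ne_bot.2 hW
  have hinv : ∀ w ∈ LinearMap.range (g - 1), g w ∈ LinearMap.range (g - 1) := by
    rintro _ ⟨u, rfl⟩
    exact ⟨g u, by simp⟩
  obtain ⟨c, hc⟩ := Module.End.exists_eigenvalue (g.restrict hinv)
  obtain ⟨⟨w, hw⟩, hwe⟩ := hc.exists_hasEigenvector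
  have hw0 : w ≠ 0 := fun h => hwe.2 (Subtype.ext h)
  have hgw : g w = c • w := congrArg Subtype.val hwe.apply_eq_smul
  refine ⟨c, ?_, w, hw0, hgw⟩
  rintro rfl
  rw [one_smul] at hgw
  obtain ⟨u, hu⟩ := hw
  have hu' : g u = u + w := by
    rw [← hu]; simp
  have hpow : ∀ m : ℕ, (g ^ m) u = u + (m : K) • w := by
    intro m
    induction m with
    | zero => simp
    | succ m ih =>
      rw [pow_succ', Module.End.mul_apply, ih, map_add, map_smul, hgw, hu']
      push_cast
      rw [add_smul, one_smul]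
      abel
  have h1 := hpow 5
  rw [hg, Module.End.one_apply] at h1
  have h2 : ((5 : ℕ) : K) • w = 0 := by
    have := h1.symm
    rwa [add_eq_left] at this
  rw [smul_eq_zero] at h2
  rcases h2 with h2 | h2
  · apply h5
    exact_mod_cast h2
  · exact hw0 h2

/-- a common eigenvector -/
theorem exists_char [IsAlgClosed K] [FiniteDimensional K V] (h5 : (5 : K) ≠ 0) {P : Type*} [Group P]
    (hP : ∀ a b : P, a * b = b * a) (hc : Nat.card P = 25) (hexp : ∀ x : P, x ^ 5 = 1) (σ : P →* Module.End K V) {b : P}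
    (hb : σ b ≠ 1) : ∃ (χ : P →* K) (v : V), v ≠ 0 ∧ (∀ x, σ x v = χ x • v) ∧ χ b ≠ 1 := by
  have hfin : Finite P := Nat.finite_of_card_ne_zero (by rw [hc]; norm_num)
  have hb1 : b ≠ 1 := by
    rintro rfl
    exact hb (map_one σ)
  have h5p : Fact (Nat.Prime 5) := ⟨by norm_num⟩
  have hob : orderOf b = 5 := orderOf_eq_prime (hexp b) hb1
  obtain ⟨c, hc1, w, hw0, hw⟩ := exists_ne_one h5 (σ b) (by rw [← map_pow, hexp, map_one]) hb
  have hne : zpowers b ≠ ⊤ := by
    intro h
    have h1 : Nat.card (zpowers b) = 5 := by rw [Nat.card_zpowers, hob]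
    rw [h, Subgroup.card_top, hc] at h1
    norm_num at h1
  obtain ⟨a, ha⟩ : ∃ a : P, a ∉ zpowers b := by
    by_contra hcon
    push Not at hcon
    exact hne ((Subgroup.eq_top_iff' _).2 hcon)
  let E := Module.End.eigenspace (σ b) c
  have hE : ∀ w ∈ E, σ a w ∈ E := by
    intro w hw
    rw [Module.End.mem_eigenspace_iff] at hw ⊢
    have : σ b (σ a w) = σ a (σ b w) := by
      rw [← Module.End.mul_apply, ← Module.End.mul_apply, ← map_mul, ← map_mul, hP]
    rw [this, hw, map_smul]
  have hwE : w ∈ E := Module.End.mem_eigenspace_iff.2 hw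
  have : Nontrivial E := ⟨⟨⟨w, hwE⟩, 0, fun h => hw0 (congrArg Subtype.val h)⟩⟩
  obtain ⟨d, hd⟩ := Module.End.exists_eigenvalue ((σ a).restrict hE)
  obtain ⟨⟨v, hv⟩, hve⟩ := hd.exists_hasEigenvector
  have hv0 : v ≠ 0 := fun h => hve.2 (Subtype.ext h)
  have hav : σ a v = d • v := congrArg Subtype.val hve.apply_eq_smul
  have hbv : σ b v = c • v := Module.End.mem_eigenspace_iff.1 hv
  let S : Subgroup P :=
    { carrier := {x | ∃ c : K, σ x v = c • v}
      one_mem' := ⟨1, by rw [map_one, one_smul]; rfl⟩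
      mul_mem' := by
        rintro x y ⟨c, hx⟩ ⟨d, hy⟩
        refine ⟨d * c, ?_⟩
        rw [map_mul, Module.End.mul_apply, hy, map_smul, hx, smul_smul]
      inv_mem' := by
        rintro x ⟨c, hx⟩
        have hx' : x⁻¹ = x ^ 4 := by
          rw [inv_eq_iff_mul_eq_one, ← pow_succ']
          exact hexp x
        refine ⟨c ^ 4, ?_⟩
        rw [hx', map_pow]
        simp only [pow_succ, pow_zero, one_mul, Module.End.mul_apply, hx, map_smul, smul_smul]
        congr 1
        ring }
  have hS : ∀ x : P, x ∈ S := by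
    have hbS : zpowers b ≤ S := by
      rw [zpowers_le]
      exact ⟨c, hbv⟩
    have haS : a ∈ S := ⟨d, hav⟩
    have h1 : Nat.card S ∣ 5 ^ 2 := by
      have := S.card_subgroup_dvd_card
      rw [hc] at this
      exact this
    have h2 := Subgroup.card_dvd_of_le hbS
    rw [Nat.card_zpowers, hob] at h2
    rw [Nat.dvd_prime_pow h5p.out] at h1
    obtain ⟨j, hj, hj'⟩ := h1
    have hj2 : j = 2 := by
      by_contra hne
      have hj1 : j ≤ 1 := by omega
      have h3 : Nat.card S ≤ 5 := by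
        rw [hj']
        calc 5 ^ j ≤ 5 ^ 1 := Nat.pow_le_pow_right (by norm_num) hj1
          _ = 5 := rfl
      have h4 : zpowers b = S := Subgroup.eq_of_le_of_card_ge hbS (by rw [Nat.card_zpowers, hob]; exact h3)
      rw [← h4] at haS
      exact ha haS
    have h3 : S = ⊤ := by
      apply Subgroup.eq_top_of_card_eq
      rw [hj', hj2, hc]
      norm_num
    intro x
    rw [h3]
    exact mem_top x
  choose χ hχ using hS
  have hsm : ∀ {r s : K}, r • v = s • v → r = s := fun h => smul_left_injective K hv0 h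
  refine ⟨{ toFun := χ, map_one' := hsm (by rw [← hχ, map_one, one_smul]; rfl), map_mul' := fun x y => hsm (by
    rw [← hχ, map_mul, Module.End.mul_apply, hχ, map_smul, hχ, smul_smul, mul_comm]) }, v, hv0, hχ, ?_⟩
  show χ b ≠ 1
  have : χ b = c := hsm (by rw [← hχ, hbv])
  rw [this]
  exact hc1

end ev

section main

variable {T : Type*} [Group T] [Finite T] {P : Subgroup T}

theorem exp_five (hP : Nat.card P = 25) (hfus : ∀ x ∈ P, x ≠ 1 → ∀ y ∈ P, y ≠ 1 →
    ∃ s ∈ normalizer (P : Set T), s * x * s⁻¹ = y) (x : P) : x ^ 5 = 1 := by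
  have h5p : Fact (Nat.Prime 5) := ⟨by norm_num⟩
  by_cases hx : x = 1
  · rw [hx, one_pow]
  obtain ⟨y, hy⟩ := exists_prime_orderOf_dvd_card' (G := P) 5 (by rw [hP]; norm_num)
  have hy1 : y ≠ 1 := by
    rintro rfl
    rw [orderOf_one] at hy
    norm_num at hy
  obtain ⟨s, _, hs⟩ := hfus y y.2 (fun h => hy1 (Subtype.ext h)) x x.2 (fun h => hx (Subtype.ext h))
  apply Subtype.ext
  have h1 : (y : T) ^ 5 = 1 := by
    rw [← Subgroup.coe_pow, ← hy, pow_orderOf_eq_one]; rfl
  rw [Subgroup.coe_pow, ← hs, conj_pow, h1]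
  simp

/-- the stabiliser of a nontrivial character fixes a nontrivial element -/
theorem exists_fix (hP : Nat.card P = 25) (hcomm : ∀ a b : P, a * b = b * a) (hexp : ∀ x : P, x ^ 5 = 1)
    (hsyl : ¬ 125 ∣ Nat.card T) {K : Type*} [Field K] (χ : P →* K) {b : P} (hb : χ b ≠ 1) :
    ∃ x : P, x ≠ 1 ∧ ∀ n : normalizer (P : Set T), (∀ z : P, χ (P.normalizerMonoidHom n z) = χ z) →
      P.normalizerMonoidHom n x = x := by
  classical
  have h5p : Fact (Nat.Prime 5) := ⟨by norm_num⟩
  have hfin : Finite P := inferInstance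
  let φ := P.normalizerMonoidHom
  -- the stabiliser
  let S : Subgroup (normalizer (P : Set T)) :=
    { carrier := {n | ∀ z : P, χ (φ n z) = χ z}
      one_mem' := fun z => by rw [map_one]; rfl
      mul_mem' := by
        intro m n hm hn z
        rw [map_mul, MulAut.mul_apply, hm, hn]
      inv_mem' := by
        intro n hn z
        have h1 := hn ((φ n)⁻¹ z)
        rw [MulAut.apply_inv_self] at h1
        rw [map_inv, h1] }
  let A : Subgroup (MulAut P) := S.map φ
  have hA5 : ¬ 5 ∣ Nat.card A := by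
    intro h
    have h1 : Nat.card A ∣ φ.ker.index := by
      rw [Subgroup.index_ker]
      exact Subgroup.card_dvd_of_le (by
        rintro _ ⟨n, _, rfl⟩
        exact ⟨n, rfl⟩)
    have h2 : 25 ∣ Nat.card φ.ker := by
      have hle : P.subgroupOf (normalizer (P : Set T)) ≤ φ.ker := by
        show _ ≤ P.normalizerMonoidHom.ker
        rw [Subgroup.normalizerMonoidHom_ker]
        intro n hn
        rw [mem_subgroupOf] at hn ⊢
        rw [mem_centralizer_iff]
        intro y hy
        exact congrArg Subtype.val (hcomm ⟨y, hy⟩ ⟨n, hn⟩)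
      have h3 := Subgroup.card_dvd_of_le hle
      rwa [Nat.card_congr (Subgroup.subgroupOfEquivOfLe P.le_normalizer).toEquiv, hP] at h3
    have h3 := φ.ker.card_mul_index
    apply hsyl
    have h4 : 25 * 5 ∣ Nat.card (normalizer (P : Set T)) := by
      rw [← h3]
      exact Nat.mul_dvd_mul h2 (h.trans h1)
    exact h4.trans (Subgroup.card_subgroup_dvd_card _)
  have hAfin : Finite A := inferInstance
  have : Fintype A := Fintype.ofFinite A
  let _ : CommGroup P := { (inferInstance : Group P) with mul_comm := hcomm }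
  let x : P := ∏ α : A, (α : MulAut P) b
  have hχA : ∀ α ∈ A, ∀ z : P, χ (α z) = χ z := by
    rintro _ ⟨n, hn, rfl⟩ z
    exact hn z
  have hx : χ x = χ b ^ Fintype.card A := by
    have h1 : χ x = ∏ α : A, χ ((α : MulAut P) b) := map_prod χ _ _
    rw [h1, Finset.prod_congr rfl (fun (α : A) _ => hχA α.1 α.2 b), Finset.prod_const, Finset.card_univ]
  refine ⟨x, ?_, ?_⟩
  · intro h
    rw [h, map_one] at hx
    have h1 : χ b ^ 5 = 1 := by rw [← map_pow, hexp, map_one]
    have h2 : orderOf (χ b) = 5 := orderOf_eq_prime h1 hb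
    have h3 := orderOf_dvd_of_pow_eq_one hx.symm
    rw [h2, ← Nat.card_eq_fintype_card] at h3
    exact hA5 h3
  · intro n hn
    have hnA : φ n ∈ A := ⟨n, hn, rfl⟩
    show (φ n) (∏ α : A, (α : MulAut P) b) = ∏ α : A, (α : MulAut P) b
    rw [map_prod]
    exact Fintype.prod_equiv (Equiv.mulLeft (⟨φ n, hnA⟩ : A)) _ _ (fun α => rfl)

/-- **degrees `≥ 24`** -/
theorem deg24 (hP : Nat.card P = 25) (hsyl : ¬ 125 ∣ Nat.card T) (hfus : ∀ x ∈ P, x ≠ 1 → ∀ y ∈ P, y ≠ 1 →
    ∃ s ∈ normalizer (P : Set T), s * x * s⁻¹ = y) {K : Type*} [Field K] [IsAlgClosed K] (h5 : (5 : K) ≠ 0)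
    {V : Type*} [AddCommGroup V] [Module K V] [FiniteDimensional K V] (ρ : T →* Module.End K V)
    (hρ : ∃ x ∈ P, ρ x ≠ 1) : 24 ≤ finrank K V := by
  classical
  have h5p : Fact (Nat.Prime 5) := ⟨by norm_num⟩
  have hcomm : ∀ a b : P, a * b = b * a :=
    (IsPGroup.isMulCommutative_of_card_eq_prime_sq (p := 5) (G := P) (by rw [hP]; norm_num)).is_comm.comm
  have hexp := exp_five hP hfus
  obtain ⟨b, hbP, hb⟩ := hρ
  obtain ⟨χ, v, hv0, hv, hχb⟩ := exists_char h5 hcomm hP hexp (ρ.comp P.subtype) (b := ⟨b, hbP⟩) hb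
  obtain ⟨x, hx1, hx⟩ := exists_fix hP hcomm hexp hsyl χ hχb
  have hx1' : (x : T) ≠ 1 := fun h => hx1 (Subtype.ext h)
  let iP : Fintype P := Fintype.ofFinite P
  let ι := {y : P // y ≠ 1}
  have hι : Fintype.card ι = 24 := by
    rw [Fintype.card_subtype_compl, Fintype.card_subtype_eq, ← Nat.card_eq_fintype_card, hP]
  choose n hnN hn using fun y : ι => hfus x x.2 hx1' y.1 y.1.2 (fun h => y.2 (Subtype.ext h))
  let N : ι → normalizer (P : Set T) := fun y => ⟨n y, hnN y⟩
  have hNx : ∀ y : ι, P.normalizerMonoidHom (N y) x = y.1 := fun y => Subtype.ext (hn y)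
  rw [← hι]
  refine card_le hcomm (ρ.comp P.subtype) (fun (y : ι) (z : P) => χ ((P.normalizerMonoidHom (N y))⁻¹ z)) ?_
    (fun y => ρ (n y) v) ?_ ?_
  · intro y z hyz
    have h1 : ∀ w : P, χ (P.normalizerMonoidHom ((N z)⁻¹ * N y) w) = χ w := by
      intro w
      have h2 := congrFun hyz (P.normalizerMonoidHom (N y) w)
      simp only [MulAut.inv_apply_self] at h2
      rw [map_mul, map_inv, MulAut.mul_apply, ← h2]
    have h2 := hx _ h1
    rw [map_mul, map_inv, MulAut.mul_apply, hNx, MulAut.inv_apply, MulEquiv.symm_apply_eq, hNx] at h2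
    exact Subtype.ext h2
  · intro y h
    apply hv0
    have h1 : ρ (n y)⁻¹ (ρ (n y) v) = v := by
      rw [← Module.End.mul_apply, ← map_mul, inv_mul_cancel, map_one]; rfl
    rw [← h1, h, map_zero]
  · intro y z
    have h1 : (z : T) * n y = n y * (((P.normalizerMonoidHom (N y))⁻¹ z : P) : T) := by
      have h2 : P.normalizerMonoidHom (N y) ((P.normalizerMonoidHom (N y))⁻¹ z) = z := MulAut.apply_inv_self _ _ _
      have h3 : n y * (((P.normalizerMonoidHom (N y))⁻¹ z : P) : T) * (n y)⁻¹ = z := congrArg Subtype.val h2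
      rw [← h3]; group
    show ρ (z : T) (ρ (n y) v) = _
    rw [← Module.End.mul_apply, ← map_mul, h1, map_mul, Module.End.mul_apply]
    have h4 := hv ((P.normalizerMonoidHom (N y))⁻¹ z)
    have h5 : ρ ((((P.normalizerMonoidHom (N y))⁻¹ z : P) : T)) v = χ ((P.normalizerMonoidHom (N y))⁻¹ z) • v := h4
    rw [h5, map_smul]

end main

end Cfsg.Agent.H751.TitsK
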