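import Cfsg.Agent.H620.RIM.Mult

/-!
# Lifting homomorphisms from powers of a simple group with trivial multiplier (helper751)

`lift_pow` : `π : Z → G` surjective with central kernel, `Z` finite, `T` nonabelian simple with trivial Schur multiplier:
every homomorphism `T ^ k → G` lifts to `Z`.
-/

set_option autoImplicit false

namespace Cfsg.Agent.H751.TitsK

open Subgroup Cfsg.Agent.H620.RIM
open scoped commutatorElement

universe u v w

theorem comm_top {T : Type v} [Group T] [IsSimpleGroup T] (hna : ∃ a b : T, a * b ≠ b * a) : commutator T = ⊤ := by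
  rcases IsSimpleGroup.eq_bot_or_eq_top_of_normal (commutator T) inferInstance with h | h
  · exfalso
    obtain ⟨a, b, hab⟩ := hna
    apply hab
    have h1 : ⁅a, b⁆ ∈ commutator T := commutator_mem_commutator (mem_top a) (mem_top b)
    rwa [h, mem_bot, commutatorElement_eq_one_iff_mul_comm] at h1
  · exact h

/-- the lift of one factor -/
theorem lift_one {Z : Type u} {G : Type w} [Group Z] [Finite Z] [Group G] (π : Z →* G) (hs : Function.Surjective π)
    (hk : ∀ z : Z, π z = 1 → ∀ y : Z, y * z = z * y) {T : Type v} [Group T] [IsSimpleGroup T]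
    (hna : ∃ a b : T, a * b ≠ b * a) (hm : MDvd.{u} 1 T) (f : T →* G) : ∃ g : T →* Z, ∀ t, π (g t) = f t := by
  classical
  by_cases hf1 : f = 1
  · exact ⟨1, fun t => by rw [hf1, MonoidHom.one_apply, MonoidHom.one_apply, map_one]⟩
  have hf : Function.Injective f := by
    rw [← MonoidHom.ker_eq_bot_iff]
    rcases IsSimpleGroup.eq_bot_or_eq_top_of_normal f.ker inferInstance with h | h
    · exact h
    · exfalso
      apply hf1
      ext t
      have : t ∈ f.ker := by rw [h]; exact mem_top t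
      exact this
  let P : Subgroup Z := f.range.comap π
  let E : Subgroup Z := ⁅P, P⁆
  have hEP : E ≤ P := by
    show ⁅P, P⁆ ≤ P
    rw [Subgroup.commutator_le]
    intro a ha b hb
    rw [commutatorElement_def]
    exact P.mul_mem (P.mul_mem (P.mul_mem ha hb) (P.inv_mem ha)) (P.inv_mem hb)
  have hmapP : P.map π = f.range := by
    rw [Subgroup.map_comap_eq_self_of_surjective hs]
  have hrange : ⁅f.range, f.range⁆ = f.range := by
    rw [MonoidHom.range_eq_map, ← Subgroup.map_commutator]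
    congr 1
    exact comm_top hna
  have hmapE : E.map π = f.range := by
    show (⁅P, P⁆).map π = f.range
    rw [Subgroup.map_commutator, hmapP, hrange]
  -- every element of `P` is an element of `E` times a central element
  have hPE : ∀ p ∈ P, ∃ x ∈ E, ∃ z : Z, (∀ y : Z, y * z = z * y) ∧ p = x * z := by
    intro p hp
    have h1 : π p ∈ E.map π := by rw [hmapE]; exact hp
    obtain ⟨x, hx, hxp⟩ := h1
    refine ⟨x, hx, x⁻¹ * p, ?_, by group⟩
    apply hk
    rw [map_mul, map_inv, hxp, inv_mul_cancel]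
  have hperf : commutator E = ⊤ := by
    rw [Subgroup.eq_top_iff']
    rintro ⟨x, hx⟩
    have h1 : E ≤ (commutator E).map E.subtype := by
      show ⁅P, P⁆ ≤ _
      rw [Subgroup.commutator_le]
      intro a ha b hb
      obtain ⟨a', ha', z, hz, rfl⟩ := hPE a ha
      obtain ⟨b', hb', w, hw, rfl⟩ := hPE b hb
      have h2 : ⁅a' * z, b' * w⁆ = ⁅a', b'⁆ := by
        rw [commutatorElement_def, commutatorElement_def]
        have hz' : ∀ y : Z, z * y = y * z := fun y => (hz y).symm
        have hw' : ∀ y : Z, w * y = y * w := fun y => (hw y).symm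
        have e1 : (a' * z)⁻¹ = a'⁻¹ * z⁻¹ := by
          have : z⁻¹ * a'⁻¹ = a'⁻¹ * z⁻¹ := by
            rw [← _root_.mul_inv_rev, hz, _root_.mul_inv_rev]
          rw [_root_.mul_inv_rev]; exact this
        have e2 : (b' * w)⁻¹ = b'⁻¹ * w⁻¹ := by
          have : w⁻¹ * b'⁻¹ = b'⁻¹ * w⁻¹ := by
            rw [← _root_.mul_inv_rev, hw, _root_.mul_inv_rev]
          rw [_root_.mul_inv_rev]; exact this
        rw [e1, e2]
        calc a' * z * (b' * w) * (a'⁻¹ * z⁻¹) * (b'⁻¹ * w⁻¹)
            = a' * (z * (b' * w)) * (a'⁻¹ * z⁻¹) * (b'⁻¹ * w⁻¹) := by group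
          _ = a' * (b' * w * z) * (a'⁻¹ * z⁻¹) * (b'⁻¹ * w⁻¹) := by rw [hz' (b' * w)]
          _ = a' * b' * (w * (z * a'⁻¹)) * z⁻¹ * (b'⁻¹ * w⁻¹) := by group
          _ = a' * b' * (w * (a'⁻¹ * z)) * z⁻¹ * (b'⁻¹ * w⁻¹) := by rw [hz']
          _ = a' * b' * (w * a'⁻¹) * b'⁻¹ * w⁻¹ := by group
          _ = a' * b' * (a'⁻¹ * w) * b'⁻¹ * w⁻¹ := by rw [hw']
          _ = a' * b' * a'⁻¹ * (w * b'⁻¹) * w⁻¹ := by group
          _ = a' * b' * a'⁻¹ * (b'⁻¹ * w) * w⁻¹ := by rw [hw']
          _ = a' * b' * a'⁻¹ * b'⁻¹ := by group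
      rw [h2]
      exact ⟨⁅⟨a', ha'⟩, ⟨b', hb'⟩⁆, commutator_mem_commutator (mem_top _) (mem_top _), rfl⟩
    obtain ⟨y, hy, hyx⟩ := h1 hx
    have : y = ⟨x, hx⟩ := Subtype.ext hyx
    rwa [← this]
  -- the surjection `E → T`
  let fe : T ≃* f.range := MonoidHom.ofInjective hf
  have hr : ∀ x : E, π x ∈ f.range := fun x => hEP x.2
  let p : E →* T := fe.symm.toMonoidHom.comp ((π.comp E.subtype).codRestrict f.range hr)
  have hp : ∀ x : E, f (p x) = π x := by
    intro x
    have h1 : fe (p x) = ⟨π x, hr x⟩ := fe.apply_symm_apply _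
    exact congrArg Subtype.val h1
  have hps : Function.Surjective p := by
    intro t
    have h1 : f t ∈ E.map π := by rw [hmapE]; exact ⟨t, rfl⟩
    obtain ⟨x, hx, hxt⟩ := h1
    exact ⟨⟨x, hx⟩, hf (by rw [hp]; exact hxt)⟩
  have hker : ∀ x : E, p x = 1 → π x = 1 := fun x hx => by rw [← hp, hx, map_one]
  have h1 := hm E p hps (by
    intro x hx
    rw [Subgroup.mem_center_iff]
    intro y
    exact Subtype.ext (hk x (hker x hx) y)) hperf
  have hinj : Function.Injective p := by
    rw [← MonoidHom.ker_eq_bot_iff, ← Subgroup.card_eq_one]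
    exact Nat.dvd_one.1 h1
  let pe : E ≃* T := MulEquiv.ofBijective p ⟨hinj, hps⟩
  refine ⟨E.subtype.comp pe.symm.toMonoidHom, fun t => ?_⟩
  show π ((pe.symm t : E) : Z) = f t
  rw [← hp]
  congr 1
  exact pe.apply_symm_apply t

/-- a homomorphism from a simple group into the centre -/
theorem triv_of_central {T : Type v} [Group T] [IsSimpleGroup T] (hna : ∃ a b : T, a * b ≠ b * a) {Z : Type u} [Group Z]
    (h : T →* Z) (hc : ∀ t : T, ∀ y : Z, y * h t = h t * y) (t : T) : h t = 1 := by
  rcases IsSimpleGroup.eq_bot_or_eq_top_of_normal h.ker inferInstance with h1 | h1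
  · exfalso
    obtain ⟨a, b, hab⟩ := hna
    apply hab
    rw [MonoidHom.ker_eq_bot_iff] at h1
    apply h1
    rw [map_mul, map_mul, hc b]
  · have : t ∈ h.ker := by rw [h1]; exact mem_top t
    exact this

/-- **the lift of a power** -/
theorem lift_pow {Z : Type u} {G : Type w} [Group Z] [Finite Z] [Group G] (π : Z →* G) (hs : Function.Surjective π)
    (hk : ∀ z : Z, π z = 1 → ∀ y : Z, y * z = z * y) {T : Type v} [Group T] [IsSimpleGroup T]
    (hna : ∃ a b : T, a * b ≠ b * a) (hm : MDvd.{u} 1 T) {k : ℕ} (f : (Fin k → T) →* G) :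
    ∃ g : (Fin k → T) →* Z, ∀ x, π (g x) = f x := by
  choose g hg using fun i : Fin k => lift_one π hs hk hna hm (f.comp (MonoidHom.mulSingle (fun _ => T) i))
  have hg' : ∀ i t, π (g i t) = f (Pi.mulSingle i t) := hg
  have hcomm : ∀ i j : Fin k, i ≠ j → ∀ s t : T, Commute (g i s) (g j t) := by
    intro i j hij s t
    have hcen : ∀ s : T, π (g i s * g j t * (g i s)⁻¹ * (g j t)⁻¹) = 1 := by
      intro s
      have h1 : Commute (Pi.mulSingle i s : Fin k → T) (Pi.mulSingle j t) :=
        Pi.mulSingle_commute (f := fun _ : Fin k => T) hij s t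
      rw [map_mul, map_mul, map_mul, map_inv, map_inv, hg', hg', ← map_inv, ← map_inv, ← map_mul, ← map_mul, ← map_mul,
        h1.eq]
      simp
    let h : T →* Z :=
      { toFun := fun s => g i s * g j t * (g i s)⁻¹ * (g j t)⁻¹
        map_one' := by simp
        map_mul' := by
          intro a b
          have h2 := hk _ (hcen b) (g i a)
          calc g i (a * b) * g j t * (g i (a * b))⁻¹ * (g j t)⁻¹
              = (g i a * (g i b * g j t * (g i b)⁻¹ * (g j t)⁻¹)) * g j t * (g i a)⁻¹ * (g j t)⁻¹ := by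
                rw [map_mul]; group
            _ = ((g i b * g j t * (g i b)⁻¹ * (g j t)⁻¹) * g i a) * g j t * (g i a)⁻¹ * (g j t)⁻¹ := by rw [h2]
            _ = (g i b * g j t * (g i b)⁻¹ * (g j t)⁻¹) * (g i a * g j t * (g i a)⁻¹ * (g j t)⁻¹) := by group
            _ = (g i a * g j t * (g i a)⁻¹ * (g j t)⁻¹) * (g i b * g j t * (g i b)⁻¹ * (g j t)⁻¹) :=
                (hk _ (hcen b) _).symm }
    have h3 := triv_of_central hna h (fun s => hk _ (hcen s)) s
    have h4 : g i s * g j t * (g i s)⁻¹ * (g j t)⁻¹ = 1 := h3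
    rw [mul_inv_eq_one, mul_inv_eq_iff_eq_mul] at h4
    exact h4
  have hpw : Pairwise fun i j : Fin k => ∀ x y : T, Commute (g i x) (g j y) := fun i j hij => hcomm i j hij
  refine ⟨MonoidHom.noncommPiCoprod g hpw, fun x => ?_⟩
  have h5 : π.comp (MonoidHom.noncommPiCoprod g hpw) = f := by
    refine MonoidHom.pi_ext fun i t => ?_
    rw [MonoidHom.comp_apply, MonoidHom.noncommPiCoprod_mulSingle, hg']
  exact DFunLike.congr_fun h5 x

end Cfsg.Agent.H751.TitsK
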