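import Cfsg.Agent.H751.TitsK.Five
import Cfsg.Agent.H751.TitsK.Lift
import Cfsg.Agent.H898.EPX.LSk
import Cfsg.Agent.H290.ElReg
import Cfsg.Agent.ChevalleyStructure.E6Min.Adjoint

/-!
# Powers of the Tits group in groups with a small representation (helper751)
-/

set_option autoImplicit false

namespace Cfsg.Agent.H751.TitsK

open Subgroup Cfsg Cfsg.Agent.H290.ElReg

theorem simple_of {T : Type*} [Group T] (hT : Lie.IsoTits T) : IsSimpleGroup T := by
  obtain ⟨e⟩ := hT
  have := H408.TitsMod.simple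
  have : Nontrivial T := e.toEquiv.nontrivial
  exact IsSimpleGroup.isSimpleGroup_of_surjective e.symm.toMonoidHom e.symm.surjective

theorem not_comm {T : Type*} [Group T] (hT : Lie.IsoTits T) : ∃ a b : T, a * b ≠ b * a := by
  obtain ⟨e⟩ := hT
  obtain ⟨P, hP, hfus⟩ := fiveN_tits
  have hfin : Finite Lie.TitsGroup := H408.TitsMod.finite
  have h5p : Fact (Nat.Prime 5) := ⟨by norm_num⟩
  obtain ⟨x, hx⟩ := exists_prime_orderOf_dvd_card' (G := P) 5 (by rw [hP]; norm_num)
  have hx' : orderOf (x : Lie.TitsGroup) = 5 := by rw [Subgroup.orderOf_coe, hx]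
  have hx1 : (x : Lie.TitsGroup) ≠ 1 := by
    intro h
    rw [h, orderOf_one] at hx'
    norm_num at hx'
  have hx2 : (x : Lie.TitsGroup) * x ≠ 1 := by
    intro h
    have h1 : orderOf (x : Lie.TitsGroup) ∣ 2 := orderOf_dvd_of_pow_eq_one (by rw [pow_two, h])
    rw [hx'] at h1
    norm_num at h1
  obtain ⟨s, _, hs⟩ := hfus x x.2 hx1 (x * x) (P.mul_mem x.2 x.2) hx2
  refine ⟨e.symm s, e.symm x, fun h => hx1 ?_⟩
  have h1 : s * (x : Lie.TitsGroup) = x * s := by
    apply e.symm.injective
    rw [map_mul, map_mul, h]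
  rw [h1, mul_inv_cancel_right] at hs
  exact (mul_eq_left.1 hs.symm)

/-- **a power of the Tits group in a group with a small representation** -/
theorem kill_gl {F : Type} [Field F] (h5 : (5 : F) ≠ 0) {n k : ℕ} (hk : 1 ≤ k) (hn : n / k < 24) {G : Type} [Group G]
    (hG : Fth n F G) {T : Type} [Group T] (hT : Lie.IsoTits T) (f : (Fin k → T) →* G) (hf : Function.Injective f) :
    False := by
  have := simple_of hT
  obtain ⟨τ, hτ⟩ := H898.EPX.fth_div hk (T := T) (by
    intro h
    obtain ⟨a, b, hab⟩ := not_comm hT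
    exact hab (h a b)) hG f hf
  have h1 := deg_tits hT (K := AlgebraicClosure F) (by
    intro h
    apply h5
    have h2 : algebraMap F (AlgebraicClosure F) 5 = 0 := by rw [map_ofNat, h]
    exact (map_eq_zero _).1 h2) τ hτ
  omega

open Cfsg.Lie Cfsg.Agent.ChevalleyStructure.E6Min.Basic Cfsg.Agent.ChevalleyStructure.E6Min.Adjoint
  Cfsg.Agent.ChevalleyStructure.E6Min.Tables in
/-- **`E₆(q)`, `q` prime to 5: no `T × T`** -/
theorem no_e6 {F : Type} [Field F] [Finite F] (h5 : (5 : F) ≠ 0) {T : Type} [Group T] (hT : Lie.IsoTits T)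
    (f : (Fin 2 → T) →* chevE6.group F) (hf : Function.Injective f) : False := by
  have := simple_of hT
  have : Finite (Zgrp F) := inferInstance
  obtain ⟨g, hg⟩ := lift_pow (ad F) ad_surjective (fun z hz y => by
    have h1 : z ∈ (ad F).ker := hz
    rw [ker_ad, Subgroup.mem_center_iff] at h1
    exact h1 y) (not_comm hT) (H620.RIM.dvd_tits hT) f
  have hginj : Function.Injective g := fun a b hab => hf (by rw [← hg, ← hg, hab])
  have hF : Fth (Fintype.card I27) F (Zgrp F) := Fth.of (ρ := (Zgrp F).subtype) (Zgrp F).subtype_injective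
  exact kill_gl h5 (k := 2) (by norm_num) (by rw [show Fintype.card I27 = 27 by decide]; norm_num) hF hT g hginj

end Cfsg.Agent.H751.TitsK
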